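import Cfsg.Agent.H905.MdP
import Cfsg.Agent.H908.EndAlt
import Cfsg.Agent.H908.EndTwo
import Cfsg.Agent.H908.Frob8
import Cfsg.Agent.H908.L7Main
import Cfsg.Agent.H906.U42Main
import Cfsg.Agent.H906.L34Main
import Cfsg.Agent.H48.NatSUEq
import Cfsg.Agent.H912.FiveList
import Cfsg.Agent.H915.LD

/-!
# Assembly of the residual classes in dimension four (helper900)

`Four p T`: the list of simple groups; `core_four`: traces; `sl4`, `su4`: the two residual classes.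
-/

set_option autoImplicit false
set_option linter.unusedSectionVars false

namespace Cfsg.Agent.H900.N4

open Cfsg Cfsg.Geo Matrix
open Cfsg.Agent.H915.LD
open Cfsg.Agent.H912 (Five.IsU42 Bd.IsL)

universe u

/-- The simple groups left in dimension four, characteristic `p`. -/
def Four (p : ℕ) (T : Type u) [Group T] : Prop :=
  Nonempty (T ≃* alternatingGroup (Fin 5)) ∨ Nonempty (T ≃* alternatingGroup (Fin 6)) ∨
  Nonempty (T ≃* alternatingGroup (Fin 7)) ∨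
  (p ≠ 2 ∧ p ≠ 7 ∧ Nonempty (T ≃* Matrix.ProjectiveSpecialLinearGroup (Fin 2) (ZMod 7))) ∨
  (5 ≤ p ∧ H912.Five.IsU42 T) ∨ (p = 3 ∧ H912.Bd.IsL 3 4 T) ∨ IsLieTypeChar p T

variable {F : Type u} [Field F] [Fintype F] {P : Subgroup (GL (Fin 4) F)}

theorem two_ne {p : ℕ} [hp : Fact p.Prime] [CharP F p] (h : p ≠ 2) : (2 : F) ≠ 0 := by
  intro h0
  have h1 : ((2 : ℕ) : F) = 0 := by exact_mod_cast h0
  rw [CharP.cast_eq_zero_iff F p] at h1
  exact h ((Nat.prime_dvd_prime_iff_eq hp.out Nat.prime_two).1 h1)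

theorem seven_ne {p : ℕ} [hp : Fact p.Prime] [CharP F p] (h : p ≠ 7) : (7 : F) ≠ 0 := by
  intro h0
  have h1 : ((7 : ℕ) : F) = 0 := by exact_mod_cast h0
  rw [CharP.cast_eq_zero_iff F p] at h1
  exact h ((Nat.prime_dvd_prime_iff_eq hp.out (by norm_num)).1 h1)

/-- the statement about traces -/
inductive Out (p : ℕ) (P : Subgroup (GL (Fin 4) F)) : Prop
  | sd (h : SD P)
  | a7fr (e : Nonempty (Soc P ≃* alternatingGroup (Fin 7))) (hp : p = 2 ∨ p % 7 = 1 ∨ p % 7 = 2 ∨ p % 7 = 4)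
      (h : Fr P p)
  | a7cj (e : Nonempty (Soc P ≃* alternatingGroup (Fin 7))) (hp : p % 7 = 3 ∨ p % 7 = 5 ∨ p % 7 = 6) (h : Cj P p)
  | l7 (e : Nonempty (Soc P ≃* Matrix.ProjectiveSpecialLinearGroup (Fin 2) (ZMod 7))) (h2 : p ≠ 2) (h7 : p ≠ 7)
  | u42fr (e : H912.Five.IsU42 (Soc P)) (hp : p % 6 = 1) (h : Fr P p)
  | u42cj (e : H912.Five.IsU42 (Soc P)) (hp : p % 6 = 5) (h : Cj P p)
  | l34 (e : H912.Bd.IsL 3 4 (Soc P)) (hp : p = 3) (h : Cj P p)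
  | nat (h : P = specialLinear (Fin 4) F)
  | psu (h : ∃ (K : Type) (_ : Field K) (_ : Fintype K) (_ : CharP K p) (N q : ℕ),
      Fintype.card K = q ^ 2 ∧ 3 ≤ N ∧ N ≤ 5 ∧ ¬ (N = 3 ∧ q = 2) ∧
      Nonempty (Soc P ≃* PSU N K q) ∧ Cj P q)

theorem coprime_of_not_dvd {p m : ℕ} [hp : Fact p.Prime] (h : ¬ p ∣ m) : m.Coprime p :=
  (Nat.Coprime.symm ((Nat.Prime.coprime_iff_not_dvd hp.out).2 h))

theorem core_four (hC : Core P) (p : ℕ) [hp : Fact p.Prime] [CharP F p] (h : Four p (Soc P)) : Out p P := by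
  have hpr := hp.out
  rcases h with ⟨⟨e⟩⟩ | ⟨⟨e⟩⟩ | ⟨⟨e⟩⟩ | ⟨h2, h7, e⟩ | ⟨h5, hU⟩ | ⟨h3, hL⟩ | hT
  · -- `A₅`
    refine Out.sd ?_
    have hc := H908.cov_of_equiv hC.perfect e
    by_cases h2 : p = 2
    · subst h2
      exact H908.a5_real_two hc
    · intro g hg
      exact H908.a5_real (two_ne h2) hc ⟨g, hg⟩
  · refine Out.sd ?_
    have hc := H908.cov_of_equiv hC.perfect e
    by_cases h2 : p = 2
    · subst h2
      exact H908.a6_real_two hc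
    · intro g hg
      exact H908.a6_real (two_ne h2) hc ⟨g, hg⟩
  · have hc := H908.cov_of_equiv hC.perfect e
    by_cases h2 : p = 2
    · subst h2
      refine Out.a7fr ⟨e⟩ (Or.inl rfl) (Fr.of_reg' 2 fun g hg ho => ?_)
      exact H908.a7_two hc g hg (coprime_of_not_dvd ho)
    · have key : ∀ g ∈ P, ¬ p ∣ orderOf g → (p = 7 → tr g⁻¹ = tr g) ∧
          (p % 7 = 1 ∨ p % 7 = 2 ∨ p % 7 = 4 → tr g ^ p = tr g) ∧
          (p % 7 = 3 ∨ p % 7 = 5 ∨ p % 7 = 6 → tr g ^ p = tr g⁻¹) := fun g hg ho =>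
        H908.a7_traces (two_ne h2) hc p ⟨g, hg⟩ (by
          rw [← Subgroup.orderOf_coe]; exact coprime_of_not_dvd ho)
      by_cases h7 : p = 7
      · refine Out.sd (SD.of_reg p fun g hg ho => ?_)
        exact (key g hg ho).1 h7
      · have h8 : p % 7 ≠ 0 := fun h0 =>
          h7 ((Nat.prime_dvd_prime_iff_eq (by norm_num) hpr).1 (Nat.dvd_of_mod_eq_zero h0)).symm
        rcases (show (p % 7 = 1 ∨ p % 7 = 2 ∨ p % 7 = 4) ∨ (p % 7 = 3 ∨ p % 7 = 5 ∨ p % 7 = 6) by omega) with h9 | h9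
        · exact Out.a7fr ⟨e⟩ (Or.inr h9) (Fr.of_reg' p fun g hg ho => (key g hg ho).2.1 h9)
        · exact Out.a7cj ⟨e⟩ h9 (Cj.of_reg' p fun g hg ho => (key g hg ho).2.2 h9)
  · exact Out.l7 e h2 h7
  · obtain ⟨K, i1, i2, hK, ⟨e⟩⟩ := hU
    have hc := H908.cov_of_equiv hC.perfect e
    obtain ⟨k1, k2⟩ := H906.U42.u42_traces p h5 hK hc
    have h2 : p % 2 = 1 := by
      rcases hpr.eq_two_or_odd with h | h
      · omega
      · exact h
    have h3 : p % 3 ≠ 0 := fun h0 => by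
      have := (Nat.prime_dvd_prime_iff_eq (by norm_num) hpr).1 (Nat.dvd_of_mod_eq_zero h0)
      omega
    rcases (show p % 3 = 1 ∨ p % 3 = 2 by omega) with h9 | h9
    · exact Out.u42fr ⟨K, i1, i2, hK, ⟨e⟩⟩ (by omega) fun g hg => k1 h9 ⟨g, hg⟩
    · exact Out.u42cj ⟨K, i1, i2, hK, ⟨e⟩⟩ (by omega) fun g hg => k2 h9 ⟨g, hg⟩
  · subst h3
    obtain ⟨K, i1, i2, hK, ⟨e⟩⟩ := hL
    have hc := H908.cov_of_equiv hC.perfect e
    exact Out.l34 ⟨K, i1, i2, hK, ⟨e⟩⟩ rfl fun g hg => H906.L34.l34_traces hK hc ⟨g, hg⟩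
  · have := hC.simple
    rcases H905.Md.dc_small p hC.absIrred hC.perfect hC.no_subfield (by norm_num) hT with
      h | h | ⟨K, i1, i2, i3, N, q, a1, a2, a3, a4, a5, a6⟩
    · exact Out.nat h
    · exact Out.sd h
    · exact Out.psu ⟨K, i1, i2, i3, N, q, a1, a2, a3, a4, a5, fun g hg => (a6 g hg).symm⟩

theorem exists_char (F : Type u) [Field F] [Fintype F] : ∃ p : ℕ, p.Prime ∧ CharP F p := by
  obtain ⟨p, hp⟩ := CharP.exists F
  exact ⟨p, CharP.char_is_prime F p, hp⟩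

/-- **The residual class of `SL(4, F)`.** -/
theorem sl4 {H : Subgroup (GL (Fin 4) F)} (hH : IsMaximalIn (specialLinear (Fin 4) F) H)
    (hS : InLinearResidualClass H)
    (hlist : ∀ (p : ℕ) (_ : Fact p.Prime) (_ : CharP F p) (P : Subgroup (GL (Fin 4) F)), Core P → Four p (Soc P)) :
    ∃ (P : Subgroup (GL (Fin 4) F)) (p : ℕ), IsResidualCore H P ∧ p.Prime ∧ Fintype.card F = p ∧
    ((Nonempty ((P ⧸ (scalars (Fin 4) F).subgroupOf P) ≃* alternatingGroup (Fin 7)) ∧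
        (p = 2 ∨ p % 7 = 1 ∨ p % 7 = 2 ∨ p % 7 = 4)) ∨
     ((∃ (K : Type) (_ : Field K) (_ : Fintype K), Fintype.card K = 4 ∧
        Nonempty ((P ⧸ (scalars (Fin 4) F).subgroupOf P) ≃* PSU 4 K 2)) ∧ p % 6 = 1)) := by
  obtain ⟨p, hp, hchar⟩ := exists_char F
  have : Fact p.Prime := ⟨hp⟩
  obtain ⟨P, hP, hq, hs, hu⟩ := hS
  have hC := core_of_residual hP
  have hsd : ¬ SD P := fun h => (hC.forms_of_sd h).elim hq hs
  have hcj : ¬ Cj P p := fun h => by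
    have h1 : Cj P (p ^ 1) := by rw [pow_one]; exact h
    exact hu (hC.fixU_of_cj p h1 hsd).2.2
  rcases core_four hC p (hlist p ‹_› ‹_› P hC) with h | ⟨e, h1, h⟩ | ⟨e, h1, h⟩ | ⟨⟨e⟩, h2, h7⟩ | ⟨e, h1, h⟩ |
    ⟨e, h1, h⟩ | ⟨e, h1, h⟩ | h | ⟨K, i1, i2, i3, N, q, a1, a2, a3, a4, a5, a6⟩
  · exact absurd h hsd
  · exact ⟨P, p, hP, hp, hC.card_eq p h, Or.inl ⟨e, h1⟩⟩
  · exact absurd h hcj
  · exact (H908.l7_not_maximal_sl (H908.cov_of_equiv hC.perfect e) (two_ne h2) (seven_ne h7) hP hq hs hH).elim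
  · exact ⟨P, p, hP, hp, hC.card_eq p h, Or.inr ⟨e, h1⟩⟩
  · exact absurd h hcj
  · exact absurd h hcj
  · exact absurd (h ▸ hP.le) (not_le_of_gt hH.1)
  · exfalso
    have := i3
    obtain ⟨b, rfl⟩ := H905.Md.exists_pow_of_card p a1
    exact hu (hC.fixU_of_cj p a6 hsd).2.2

/-- **The residual class of `SU(4, q)`.** -/
theorem su4 {q : ℕ} (hF : Fintype.card F = q ^ 2) {H : Subgroup (GL (Fin 4) F)}
    (hH : IsMaximalIn (GU 4 F q ⊓ specialLinear (Fin 4) F) H) (hS : InUnitaryResidualClass H)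
    (hlist : ∀ (p : ℕ) (_ : Fact p.Prime) (_ : CharP F p) (P : Subgroup (GL (Fin 4) F)), Core P → Four p (Soc P))
    (hU3 : ∀ (p : ℕ) (_ : Fact p.Prime) (_ : CharP F p) (P : Subgroup (GL (Fin 4) F)), Core P → ¬ SD P →
      P ≤ GU 4 F q → ∀ (K : Type) (_ : Field K) (_ : Fintype K) (_ : CharP K p) (q₀ : ℕ), Fintype.card K = q₀ ^ 2 → q₀ ≠ 2 →
        (Soc P ≃* PSU 3 K q₀) → False) :
    ∃ P : Subgroup (GL (Fin 4) F), IsResidualCore H P ∧ q.Prime ∧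
    ((Nonempty ((P ⧸ (scalars (Fin 4) F).subgroupOf P) ≃* alternatingGroup (Fin 7)) ∧
        (q % 7 = 3 ∨ q % 7 = 5 ∨ q % 7 = 6)) ∨
     ((∃ (K : Type) (_ : Field K) (_ : Fintype K), Fintype.card K = 4 ∧
        Nonempty ((P ⧸ (scalars (Fin 4) F).subgroupOf P) ≃* Matrix.ProjectiveSpecialLinearGroup (Fin 3) K)) ∧ q = 3) ∨
     ((∃ (K : Type) (_ : Field K) (_ : Fintype K), Fintype.card K = 4 ∧
        Nonempty ((P ⧸ (scalars (Fin 4) F).subgroupOf P) ≃* PSU 4 K 2)) ∧ q % 6 = 5)) := by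
  obtain ⟨p, hp, hchar⟩ := exists_char F
  have : Fact p.Prime := ⟨hp⟩
  obtain ⟨P, hP, hq, hs⟩ := hS
  have hC := core_of_residual hP
  have hsd : ¬ SD P := fun h => (hC.forms_of_sd h).elim hq hs
  have hfr : ¬ Fr P p := not_fr_of_card hC p hF
  have hPU : P ≤ GU 4 F q := (hP.le.trans hH.1.le).trans inf_le_left
  rcases core_four hC p (hlist p ‹_› ‹_› P hC) with h | ⟨e, h1, h⟩ | ⟨e, h1, h⟩ | ⟨⟨e⟩, h2, h7⟩ | ⟨e, h1, h⟩ |
    ⟨e, h1, h⟩ | ⟨e, h1, h⟩ | h | ⟨K, i1, i2, i3, N, q₀, a1, a2, a3, a4, ⟨a5⟩, a6⟩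
  · exact absurd h hsd
  · exact absurd h hfr
  · obtain rfl := q_eq_of_cj hC p hF h
    exact ⟨P, hP, hp, Or.inl ⟨e, h1⟩⟩
  · exact (H908.l7_not_maximal_su hF (H908.cov_of_equiv hC.perfect e) (two_ne h2) (seven_ne h7) hP hq hs hH).elim
  · exact absurd h hfr
  · obtain rfl := q_eq_of_cj hC p hF h
    exact ⟨P, hP, hp, Or.inr (Or.inr ⟨e, h1⟩)⟩
  · obtain rfl := q_eq_of_cj hC p hF h
    exact ⟨P, hP, hp, Or.inr (Or.inl ⟨e, h1⟩)⟩
  · exact absurd ((h ▸ hP.le : specialLinear (Fin 4) F ≤ H)) fun h5 =>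
      not_le_of_gt hH.1 (inf_le_right.trans h5)
  · exfalso
    have := i3
    rcases (show N = 3 ∨ N = 4 ∨ N = 5 by omega) with rfl | rfl | rfl
    · exact hU3 p ‹_› ‹_› P hC hsd hPU K i1 i2 i3 q₀ a1 (fun h => a4 ⟨rfl, h⟩) a5
    · obtain ⟨-, h5⟩ := H48.NatSU.psu_eq hC p hF hPU a1 (by norm_num) (by omega) a5 rfl
      exact not_le_of_gt hH.1 (h5 ▸ hP.le)
    · obtain ⟨-, h5⟩ := H48.NatSU.psu_le hC p hF hPU a1 (by norm_num) (by omega) a5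
      omega

end Cfsg.Agent.H900.N4
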