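import Cfsg.Agent.H900.N4.Asm
import Cfsg.Agent.H929.UThreeMain

/-!
# `S5785` modulo the list of simple groups (helper900)
-/

set_option autoImplicit false
set_option linter.unusedSectionVars false

namespace Cfsg.Agent.H900.N4

open Cfsg Cfsg.Geo Matrix
open Cfsg.Agent.H915.LD

universe u

variable {F : Type u} [Field F] [Fintype F]

theorem u3_four {P : Subgroup (GL (Fin 4) F)} (p : ℕ) [Fact p.Prime] [CharP F p] (hC : Core P) (hsd : ¬ SD P)
    {K : Type} [Field K] [Fintype K] [CharP K p] {q₀ : ℕ} (hK : Fintype.card K = q₀ ^ 2) (h2 : q₀ ≠ 2)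
    (e : Soc P ≃* PSU 3 K q₀) : False := by
  have h1 : 1 < Fintype.card K := Fintype.one_lt_card
  have h3 : 3 ≤ q₀ := by
    rw [hK] at h1
    by_contra h
    have : q₀ = 0 ∨ q₀ = 1 := by omega
    rcases this with rfl | rfl <;> norm_num at h1
  rcases H929.U3.core_psu3 p hC h3 hK e (by simp) with h | ⟨-, h | h | h | h⟩
  · exact hsd h
  · simp at h
  · simp at h
  · simp at h
  · simp at h

/-- **The residual class of `SU(4, q)`.** -/
theorem su4' {q : ℕ} (hF : Fintype.card F = q ^ 2) {H : Subgroup (GL (Fin 4) F)}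
    (hH : IsMaximalIn (GU 4 F q ⊓ specialLinear (Fin 4) F) H) (hS : InUnitaryResidualClass H)
    (hlist : ∀ (p : ℕ) (_ : Fact p.Prime) (_ : CharP F p) (P : Subgroup (GL (Fin 4) F)), Core P → Four p (Soc P)) :
    ∃ P : Subgroup (GL (Fin 4) F), IsResidualCore H P ∧ q.Prime ∧
    ((Nonempty ((P ⧸ (scalars (Fin 4) F).subgroupOf P) ≃* alternatingGroup (Fin 7)) ∧
        (q % 7 = 3 ∨ q % 7 = 5 ∨ q % 7 = 6)) ∨
     ((∃ (K : Type) (_ : Field K) (_ : Fintype K), Fintype.card K = 4 ∧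
        Nonempty ((P ⧸ (scalars (Fin 4) F).subgroupOf P) ≃* Matrix.ProjectiveSpecialLinearGroup (Fin 3) K)) ∧ q = 3) ∨
     ((∃ (K : Type) (_ : Field K) (_ : Fintype K), Fintype.card K = 4 ∧
        Nonempty ((P ⧸ (scalars (Fin 4) F).subgroupOf P) ≃* PSU 4 K 2)) ∧ q % 6 = 5)) :=
  su4 hF hH hS hlist fun p i1 i2 _ hC hsd _ _ j1 j2 j3 _ hK h2 e => by
    have := i1
    have := i2
    have := j3
    exact u3_four p hC hsd hK h2 e

end Cfsg.Agent.H900.N4
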